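import Mathlib.RingTheory.Ideal.Quotient.Operations
import Mathlib.RingTheory.Flat.Basic
import Mathlib.RingTheory.Flat.Stability
import Mathlib.RingTheory.Flat.TorsionFree
import Mathlib.RingTheory.Noetherian.Basic
import Mathlib.RingTheory.Ideal.MinimalPrime.Noetherian
import Mathlib.RingTheory.Ideal.Prime
import Mathlib.RingTheory.Localization.AtPrime.Basic

/-!
Membership in an ideal with flat quotient over a reduced base is tested on fibres.
-/

set_option autoImplicit false

universe u

namespace Groth.Agent.Div86.FibreLe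

variable {A B : Type u} [CommRing A] [CommRing B] [Algebra A B]

theorem exists_notMem_mul_mem (p : Ideal A) [p.IsPrime] (J : Ideal B) (a : B)
    (h : ∀ Q : Ideal B, Q.IsPrime → Q.comap (algebraMap A B) = p →
      ∃ c ∉ Q, c * a ∈ J ⊔ p.map (algebraMap A B)) :
    ∃ r ∉ p, algebraMap A B r * a ∈ J ⊔ p.map (algebraMap A B) := by
  let C : Ideal B := Submodule.comap (LinearMap.mulRight B a) (J ⊔ p.map (algebraMap A B))
  by_contra hne
  push Not at hne
  have hdis : Disjoint (C : Set B) (Algebra.algebraMapSubmonoid B p.primeCompl : Set B) := by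
    rw [Set.disjoint_right]
    rintro _ ⟨r, hr, rfl⟩ hmem
    exact hne r hr hmem
  obtain ⟨Q, hQ, hCQ, hQdis⟩ := Ideal.exists_le_prime_disjoint C _ hdis
  have hpC : p.map (algebraMap A B) ≤ C := fun x hx =>
    Ideal.mem_sup_right (Ideal.mul_mem_right _ _ hx)
  have hQp : Q.comap (algebraMap A B) = p := by
    refine le_antisymm (fun r hr => ?_) (Ideal.map_le_iff_le_comap.1 (hpC.trans hCQ))
    by_contra hrp
    exact Set.disjoint_right.1 hQdis ⟨r, hrp, rfl⟩ hr
  obtain ⟨c, hc, hca⟩ := h Q hQ hQp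
  exact hc (hCQ hca)

theorem eq_zero_of_forall_mem [IsReduced A] {x : A} (h : ∀ q ∈ minimalPrimes A, x ∈ q) : x = 0 := by
  have hx : x ∈ nilradical A := by
    rw [nilradical_eq_sInf, Submodule.mem_sInf]
    intro q hq
    haveI : Ideal.IsPrime q := hq
    obtain ⟨m, hm, hmq⟩ := Ideal.exists_minimalPrimes_le (I := (⊥ : Ideal A)) (J := q) bot_le
    exact hmq (h m hm)
  exact (mem_nilradical.1 hx).eq_zero

theorem mem_of_fibres [IsNoetherianRing A] [IsReduced A] (J : Ideal B) [Module.Flat A (B ⧸ J)] (a : B)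
    (h : ∀ Q : Ideal B, Q.IsPrime → ∃ c ∉ Q, c * a ∈ J ⊔ (Q.comap (algebraMap A B)).map (algebraMap A B)) :
    a ∈ J := by
  classical
  have hfin : (minimalPrimes A).Finite := minimalPrimes.finite_of_isNoetherianRing A
  have hc : ∀ p ∈ minimalPrimes A, ∃ c ∉ p, ∀ q ∈ minimalPrimes A, q ≠ p → c ∈ q := by
    intro p hp
    haveI := hp.1.1
    have hle : ¬ (hfin.toFinset.erase p).inf id ≤ p := by
      intro hle
      obtain ⟨q, hq, hqp⟩ := (Ideal.IsPrime.inf_le' (s := hfin.toFinset.erase p) (f := id) hp.1.1).1 hle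
      obtain ⟨hne, hq⟩ := Finset.mem_erase.1 hq
      exact hne (le_antisymm hqp (hp.2 ((hfin.mem_toFinset.1 hq).1) hqp))
    obtain ⟨c, hc, hcp⟩ := SetLike.not_le_iff_exists.1 hle
    exact ⟨c, hcp, fun q hq hne =>
      Finset.inf_le (f := id) (Finset.mem_erase.2 ⟨hne, hfin.mem_toFinset.2 hq⟩) hc⟩
  choose! c hcp hcq using hc
  have he : ∀ p ∈ minimalPrimes A, ∃ e ∉ p, (∀ q ∈ minimalPrimes A, q ≠ p → e ∈ q) ∧
      algebraMap A B e * a ∈ J := by
    intro p hp
    haveI := hp.1.1
    obtain ⟨r, hr, hra⟩ := exists_notMem_mul_mem p J a fun Q hQ hQp => hQp ▸ h Q hQ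
    refine ⟨c p * r, fun hm => (hp.1.1.mem_or_mem hm).elim (hcp p hp) hr,
      fun q hq hne => q.mul_mem_right _ (hcq p hp q hq hne), ?_⟩
    obtain ⟨j, hj, y, hy, hjy⟩ := Submodule.mem_sup.1 hra
    rw [map_mul, mul_assoc, ← hjy, mul_add]
    refine J.add_mem (J.mul_mem_left _ hj) ?_
    have hkill : p.map (algebraMap A B) ≤ Submodule.comap (LinearMap.mulLeft B (algebraMap A B (c p))) J := by
      rw [Ideal.map_le_iff_le_comap]
      intro t ht
      show algebraMap A B (c p) * algebraMap A B t ∈ J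
      have h0 : c p * t = 0 := by
        refine eq_zero_of_forall_mem ?_
        intro q hq
        by_cases hqp : q = p
        · subst hqp; exact q.mul_mem_left _ ht
        · exact q.mul_mem_right _ (hcq p hp q hq hqp)
      rw [← map_mul, h0, map_zero]
      exact J.zero_mem
    exact hkill hy
  choose! e hep heq heJ using he
  let E := ∑ p ∈ hfin.toFinset, e p
  have hE : ∀ q ∈ minimalPrimes A, E ∉ q := by
    intro q hq hmem
    refine hep q hq ?_
    simp only [E, ← Finset.sum_erase_add _ _ (hfin.mem_toFinset.2 hq)] at hmem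
    refine (Submodule.add_mem_iff_right q ?_).1 hmem
    refine Submodule.sum_mem _ fun p hp => ?_
    obtain ⟨hne, hp⟩ := Finset.mem_erase.1 hp
    exact heq p (hfin.mem_toFinset.1 hp) q hq hne.symm
  have hEreg : IsSMulRegular A E := by
    intro x y hxy
    rw [← sub_eq_zero]
    refine eq_zero_of_forall_mem ?_
    intro q hq
    refine (hq.1.1.mem_or_mem ?_).resolve_left (hE q hq)
    have h0 : E * (x - y) = 0 := by rw [mul_sub]; exact sub_eq_zero.2 hxy
    rw [h0]
    exact q.zero_mem
  have hEJ : algebraMap A B E * a ∈ J := by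
    simp only [E, map_sum, Finset.sum_mul]
    exact Submodule.sum_mem _ fun p hp => heJ p (hfin.mem_toFinset.1 hp)
  have := (Module.Flat.isSMulRegular_of_nonZeroDivisors (M := B ⧸ J)
    (mem_nonZeroDivisors_iff_right.2 fun z hz => hEreg (show E • z = E • 0 by
      rw [smul_zero, smul_eq_mul, mul_comm]; exact hz)))
  refine Ideal.Quotient.eq_zero_iff_mem.1 (this ?_)
  show E • Ideal.Quotient.mk J a = E • 0
  rw [smul_zero, Algebra.smul_def, IsScalarTower.algebraMap_apply A B (B ⧸ J), Ideal.Quotient.algebraMap_eq,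
    ← map_mul]
  exact Ideal.Quotient.eq_zero_iff_mem.2 hEJ

end Groth.Agent.Div86.FibreLe
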