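import Groth.Agent.Div86.FibreLe.Alg
import Groth.Agent.Div86.Descend.StI
import Groth.Agent.FlatX.RelCartier
import Groth.Agent.FlatDvr.FibreStalk

/-!
Containment of closed subschemes flat over a reduced base is tested on fibres.
-/

set_option autoImplicit false

universe u

open CategoryTheory AlgebraicGeometry TopologicalSpace IsLocalRing

namespace Groth.Agent.Div86.FibreLe

variable {X S : Scheme.{u}}

theorem le_sup_of_fibre (φ : X ⟶ S) {I J : X.IdealSheafData} (s : S) (w : ↥(φ.fiber s))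
    (hfib : I.comap (φ.fiberι s) ≤ J.comap (φ.fiberι s)) :
    Descend.stI I (φ.fiberι s w) ≤ Descend.stI J (φ.fiberι s w) ⊔
      (maximalIdeal (S.presheaf.stalk (φ (φ.fiberι s w)))).map (φ.stalkMap (φ.fiberι s w)).hom := by
  let π := ((φ.fiberι s).stalkMap w).hom
  have hπ : Function.Surjective π := (φ.fiberι s).stalkMap_surjective w
  have h1 : Descend.stI (I.comap (φ.fiberι s)) w ≤ Descend.stI (J.comap (φ.fiberι s)) w :=
    iSup₂_mono fun V _ => Ideal.map_mono (hfib V)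
  rw [Descend.stI_comap, Descend.stI_comap] at h1
  intro a ha
  obtain ⟨b, hb, hba⟩ := (Ideal.mem_map_iff_of_surjective _ hπ).1 (h1 (Ideal.mem_map_of_mem _ ha))
  refine Submodule.mem_sup.2 ⟨b, hb, a - b, ?_, by ring⟩
  rw [← FlatDvr.ker_stalkMap_fiberι φ w, RingHom.mem_ker, map_sub, hba, sub_self]

theorem le_of_fibres (φ : X ⟶ S) [IsLocallyNoetherian S] [AlgebraicGeometry.IsReduced S]
    (I J : X.IdealSheafData) [Flat (J.subschemeι ≫ φ)]
    (hfib : ∀ s : S, I.comap (φ.fiberι s) ≤ J.comap (φ.fiberι s)) : I ≤ J := by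
  refine Descend.le_of_stI fun x => ?_
  obtain ⟨W, hxW⟩ := FlatX.exists_chart φ x
  obtain ⟨U, hU, hxU, e⟩ := exists_isAffineOpen_mem_and_subset (x := x) (U := φ ⁻¹ᵁ W.1) hxW
  rw [Descend.stI_eq I ⟨U, hU⟩ hxU, Descend.stI_eq J ⟨U, hU⟩ hxU]
  refine Ideal.map_mono fun a ha => ?_
  have h1 := FlatX.flat_quotApp φ J inferInstance W ⟨U, hU⟩ e
  letI := (φ.appLE W.1 U e).hom.toAlgebra
  haveI : IsNoetherianRing Γ(S, W.1) := IsLocallyNoetherian.component_noetherian W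
  haveI : _root_.IsReduced Γ(S, W.1) := IsReduced.component_reduced W.1
  haveI : Module.Flat Γ(S, W.1) (Γ(X, U) ⧸ J.ideal ⟨U, hU⟩) := RingHom.flat_algebraMap_iff.mp h1
  refine mem_of_fibres (A := Γ(S, W.1)) (J.ideal ⟨U, hU⟩) a fun Q hQ => ?_
  obtain ⟨z, hz, hzQ⟩ : ∃ (z : X) (hz : z ∈ U), (hU.primeIdealOf ⟨z, hz⟩).asIdeal = Q := by
    let q : PrimeSpectrum Γ(X, U) := ⟨Q, hQ⟩
    have hy : hU.fromSpec q ∈ U := by
      rw [← SetLike.mem_coe, ← hU.range_fromSpec]; exact ⟨q, rfl⟩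
    exact ⟨_, hy, congrArg PrimeSpectrum.asIdeal
      (hU.fromSpec.isOpenEmbedding.injective (hU.fromSpec_primeIdealOf ⟨_, hy⟩))⟩
  subst hzQ
  have hmS : (maximalIdeal (S.presheaf.stalk (φ z))).map (φ.stalkMap z).hom =
      (((hU.primeIdealOf ⟨z, hz⟩).asIdeal.comap (algebraMap Γ(S, W.1) Γ(X, U))).map
        (algebraMap Γ(S, W.1) Γ(X, U))).map (X.presheaf.germ U z hz).hom := by
    letI := S.presheaf.algebra_section_stalk ⟨φ z, e hz⟩
    haveI := W.2.isLocalization_stalk ⟨φ z, e hz⟩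
    rw [show (hU.primeIdealOf ⟨z, hz⟩).asIdeal.comap (algebraMap Γ(S, W.1) Γ(X, U)) =
        (W.2.primeIdealOf ⟨φ z, e hz⟩).asIdeal from
      congrArg PrimeSpectrum.asIdeal (IsAffineOpen.comap_primeIdealOf_appLE W.1 W.2 U hU e hz),
      ← IsLocalization.AtPrime.map_eq_maximalIdeal (W.2.primeIdealOf ⟨φ z, e hz⟩).asIdeal
        (S.presheaf.stalk (φ z)), Ideal.map_map, Ideal.map_map]
    congr 1
    ext r
    show (S.presheaf.germ W.1 (φ z) (e hz) ≫ φ.stalkMap z).hom r =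
      (φ.appLE W.1 U e ≫ X.presheaf.germ U z hz).hom r
    rw [φ.germ_stalkMap, Scheme.Hom.appLE, Category.assoc, X.presheaf.germ_res]
  have hkey : X.presheaf.germ U z hz a ∈
      (J.ideal ⟨U, hU⟩ ⊔ ((hU.primeIdealOf ⟨z, hz⟩).asIdeal.comap (algebraMap Γ(S, W.1) Γ(X, U))).map
        (algebraMap Γ(S, W.1) Γ(X, U))).map (X.presheaf.germ U z hz).hom := by
    have h2 : Descend.stI I z ≤ Descend.stI J z ⊔
        (maximalIdeal (S.presheaf.stalk (φ z))).map (φ.stalkMap z).hom := by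
      obtain ⟨s, w, rfl⟩ : ∃ s w, φ.fiberι s w = z := ⟨φ z, φ.asFiber z, φ.fiberι_asFiber z⟩
      exact le_sup_of_fibre φ s w (hfib s)
    rw [Ideal.map_sup, ← hmS, ← Descend.stI_eq J ⟨U, hU⟩ hz]
    refine h2 ?_
    rw [Descend.stI_eq I ⟨U, hU⟩ hz]
    exact Ideal.mem_map_of_mem _ ha
  letI := X.presheaf.algebra_section_stalk ⟨z, hz⟩
  haveI := hU.isLocalization_stalk ⟨z, hz⟩
  exact (IsLocalization.algebraMap_mem_map_algebraMap_iff
    (hU.primeIdealOf ⟨z, hz⟩).asIdeal.primeCompl (X.presheaf.stalk z) _ _).1 hkey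

end Groth.Agent.Div86.FibreLe
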